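import Cfsg.Agent.Lib.ThType.Recognition
import Cfsg.Agent.Lib.ThType.Psi.Main
import Cfsg.Agent.Lib.ThType.Psi.Twisted

/-!
# The recognition from the hypotheses on the centraliser

The coordinates, the element of order three and the exclusion of the twisted case give a copy of
the presented group, and the endgame shows that it is everything.
-/

set_option autoImplicit false
set_option linter.unusedSectionVars false

universe u

namespace CfsgLib.ThType.Endgame

open Subgroup CfsgLib.ExtraNine CfsgLib.ThOut

/-- The Thompson group is recognised from the centraliser of an involution. -/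
theorem th_recognition {G : Type u} [Group G] [Finite G] {z : G} (hz : orderOf z = 2)
    (Q : Subgroup (centralizer ({z} : Set G))) [Q.Normal]
    (hQ : Cfsg.IsExtraspecial 2 Q) (hcard : Nat.card Q = 2 ^ 9)
    (hCQ : centralizer (Q : Set (centralizer ({z} : Set G))) ≤ Q)
    (e : (centralizer ({z} : Set G)) ⧸ Q ≃* Perm.A9)
    (hG : centralizer ({z} : Set G) ⊔ Cfsg.oddCore G ≠ ⊤) :
    Cfsg.Spor.IsoTh G ∧ Cfsg.IsTh G ∧ Nat.card G = 90745943887872000 ∧ IsSimpleGroup G ∧
      ∀ x y : G, orderOf x = 2 → orderOf y = 2 → IsConj x y := by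
  haveI : IsSimpleGroup Cfsg.Spor.Th := CfsgLib.ThIndex.th_simple
  haveI : Finite Cfsg.Spor.Th := Nat.finite_of_card_ne_zero (by rw [CfsgLib.ThIndex.th_card]; norm_num)
  have hC := CfsgLib.ThInvol.card_cent_le CfsgLib.ThIndex.th_card
  obtain ⟨V, _, N, rfl, hV, ⟨eρ⟩⟩ := exists_frame hz Q hQ hcard hCQ e
  haveI : Finite V := Nat.finite_of_card_ne_zero (by rw [hV]; norm_num)
  obtain ⟨φ, hφi, hle⟩ := exists_hom_of_frame hC eρ hV hG
    (fun θ hi hr h0 ha hc => Psi.exists_h hC hi hr.symm h0 ha hc) (fun E Γ _ T hs => Psi.twisted_false hC T hs)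
  exact facts φ hφi hle

end CfsgLib.ThType.Endgame
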