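import Cfsg.Agent.Lib.ThType.Endgame.Checks
import Cfsg.Agent.Lib.ThType.Endgame.PackA

/-!
# The checks for the element of order thirty-one
-/

set_option autoImplicit false
set_option maxRecDepth 100000
set_option maxHeartbeats 4000000

namespace CfsgLib.ThType.Endgame

open CfsgLib.ThOut CfsgLib.ThRep.ModThree

theorem goodA_ok : goodOk basisA = true := by decide +kernel

theorem packA_ok : beqL ((rowsOf basisA).map pk) packA = true := by decide +kernel

theorem packAPerm_ok : beqL ((permRows 31 248 basisA).map pk) packAPerm = true := by decide +kernel

theorem dualA_ok : dualOk packA dualA = true := by decide +kernel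

theorem moveA_ok : moveOk wordA packA packAPerm = true := by decide +kernel

end CfsgLib.ThType.Endgame
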