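import Cfsg.Agent.Lib.ThType.Endgame.Checks
import Cfsg.Agent.Lib.ThType.Endgame.PackB

/-!
# The checks for the element of order nineteen
-/

set_option autoImplicit false
set_option maxRecDepth 100000
set_option maxHeartbeats 4000000

namespace CfsgLib.ThType.Endgame

open CfsgLib.ThOut CfsgLib.ThRep.ModThree

theorem goodB_ok : goodOk basisB = true := by decide +kernel

theorem packB_ok : beqL ((rowsOf basisB).map pk) packB = true := by decide +kernel

theorem packBPerm_ok : beqL ((permRows 19 247 basisB).map pk) packBPerm = true := by decide +kernel

theorem dualB_ok : dualOk packB dualB = true := by decide +kernel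

theorem moveB_ok : moveOk wordB packB packBPerm = true := by decide +kernel

end CfsgLib.ThType.Endgame
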