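import Cfsg.Agent.Lib.ThOut.Words
import Cfsg.Agent.Lib.ThType.Endgame.Data

/-!
# The checks on the permuted bases
-/

set_option autoImplicit false
set_option maxRecDepth 100000
set_option maxHeartbeats 4000000

namespace CfsgLib.ThType.Endgame

open CfsgLib.ThOut CfsgLib.ThRep CfsgLib.ThRep.ModThree

/-- The entries of a packed row. -/
def rowOf (r : ℕ) : List ℕ := (List.range 248).map fun j => Nat.mod (Nat.shiftRight r (2 * j)) 4

/-- The rows of a matrix. -/
def rowsOf (L : List ℕ) : List (List ℕ) := L.map rowOf

/-- A row as a sparse row without gaps. -/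
def spOf (r : List ℕ) : List (ℕ × ℕ) := r.map fun v => (0, v)

/-- A cyclic shift inside blocks of length `o` below `m`. -/
def sig (o m j : ℕ) : ℕ := if j < m then j / o * o + (j % o + 1) % o else j

/-- The opposite shift. -/
def sig' (o m j : ℕ) : ℕ := if j < m then j / o * o + (j % o + (o - 1)) % o else j

/-- The rows with permuted columns. -/
def permRows (o m : ℕ) (P : List ℕ) : List (List ℕ) :=
  P.map fun r => (List.range 248).map fun j => Nat.mod (Nat.shiftRight r (2 * sig o m j)) 4

/-- The word of order thirty-one. -/
def wordA : List ℕ := [12, 8, 2, 6, 4, 14, 12, 10]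

/-- The word of order nineteen. -/
def wordB : List ℕ := [6, 4, 11, 14, 12, 2]

/-- A word times a packed matrix. -/
noncomputable def evFrom (w : List ℕ) (Y : List ℕ) : List ℕ :=
  List.rec (motive := fun _ => List ℕ) Y (fun g _ ih => mulF (matGens.getD g []) ih) w

/-- The rows are reduced. -/
noncomputable def goodOk (P : List ℕ) : Bool :=
  Nat.beq P.length 248 && (rowsOf P).all fun r => r.all fun a => Nat.blt a 3

/-- The second matrix inverts the first, given in packed form. -/
noncomputable def dualOk (pP Q : List ℕ) : Bool :=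
  okGen 248 ((rowsOf Q).map spOf) && beqL (mulF ((rowsOf Q).map spOf) pP) (idP 248)

/-- The word permutes the basis, both given in packed form. -/
noncomputable def moveOk (w pP pS : List ℕ) : Bool :=
  w.all (fun g => Nat.blt g 16) && beqL (evFrom w pP) pS

theorem sig_ok : ((List.range 248).all fun j =>
    Nat.blt (sig 31 248 j) 248 && Nat.blt (sig' 31 248 j) 248 && Nat.beq (sig' 31 248 (sig 31 248 j)) j &&
      Nat.beq (sig 31 248 (sig' 31 248 j)) j &&
    Nat.blt (sig 19 247 j) 248 && Nat.blt (sig' 19 247 j) 248 && Nat.beq (sig' 19 247 (sig 19 247 j)) j &&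
      Nat.beq (sig 19 247 (sig' 19 247 j)) j) = true := by decide +kernel

end CfsgLib.ThType.Endgame
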