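import Cfsg.Agent.Lib.ThOut.ChecksDefs

/-!
# The orbit of the class of c on the singular classes, and checks for the classes of involutions
-/

set_option autoImplicit false
set_option maxRecDepth 100000
set_option maxHeartbeats 1000000

namespace CfsgLib.ThType.Endgame

open CfsgLib.ThOut

/-- Steps (class, letter, previous class). -/
def orbTree : List (ℕ × ℕ × ℕ) :=
  [(2, 2, 1), (4, 3, 2), (201, 6, 2), (8, 4, 4), (206, 6, 4), (205, 2, 201), (158, 4, 201), (16, 2, 8),
   (32, 3, 8), (64, 4, 8), (128, 5, 8), (220, 6, 8), (202, 2, 206), (149, 4, 206), (204, 3, 205), (150, 4, 205),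
   (226, 2, 158), (182, 3, 158), (110, 4, 158), (57, 5, 158), (242, 6, 158), (255, 5, 16), (197, 6, 16), (77, 6, 32),
   (51, 6, 64), (236, 6, 128), (195, 2, 220), (147, 4, 220), (203, 3, 202), (157, 4, 202), (241, 2, 149), (45, 4, 149),
   (186, 5, 149), (230, 6, 149), (151, 4, 204), (46, 4, 150), (185, 5, 150), (227, 3, 226), (90, 5, 226), (91, 6, 226),
   (178, 2, 182), (62, 4, 182), (169, 5, 182), (99, 6, 182), (117, 2, 110), (209, 3, 110), (165, 4, 110), (85, 4, 57),
   (141, 6, 255), (217, 2, 197), (214, 4, 197), (54, 2, 77), (75, 2, 51), (23, 4, 51), (139, 2, 236), (135, 4, 236),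
   (234, 3, 195), (244, 2, 147), (39, 4, 147), (188, 5, 147), (225, 6, 147), (156, 4, 203), (179, 3, 157), (109, 4, 157),
   (58, 5, 157), (102, 3, 241), (166, 5, 241), (86, 6, 241), (43, 3, 45), (89, 4, 45), (94, 6, 45), (118, 4, 186),
   (113, 6, 186), (154, 2, 230), (240, 2, 151), (47, 4, 151), (184, 5, 151), (59, 2, 91), (116, 5, 91), (173, 5, 178),
   (93, 2, 62), (174, 3, 62), (105, 5, 62), (83, 6, 62), (124, 6, 169), (27, 5, 99), (213, 2, 209), (218, 4, 209),
   (233, 2, 141), (78, 3, 217), (199, 6, 217), (210, 2, 214), (177, 5, 214), (29, 6, 214), (142, 3, 54), (30, 4, 54),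
   (143, 6, 54), (15, 2, 23), (248, 5, 23), (53, 3, 139), (71, 5, 135), (101, 3, 244), (163, 5, 244), (153, 6, 244),
   (108, 4, 156), (180, 2, 179), (55, 4, 179), (172, 5, 179), (212, 3, 109), (229, 4, 102), (121, 6, 102), (61, 2, 94),
   (106, 2, 113), (60, 6, 154), (103, 3, 240), (167, 5, 240), (87, 6, 240), (92, 3, 93), (114, 5, 93), (170, 2, 174),
   (122, 4, 174), (198, 2, 218), (79, 6, 233), (181, 4, 78), (232, 6, 78), (216, 2, 199), (107, 3, 210), (211, 6, 210),
   (171, 5, 180), (31, 4, 55), (120, 4, 172), (228, 3, 229), (155, 6, 61), (115, 5, 92)]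

/-- The image of a class under a letter. -/
def imgC (r : ℕ) : ℕ → ℕ → ℕ
  | 0, _ => 0
  | n + 1, v => imgC r n v ^^^ if v.testBit n then conjC r n / 2 else 0

/-- The number of factors selected before the given one. -/
def cntC (i : ℕ) : ℕ → ℕ → ℕ
  | 0, _ => 0
  | n + 1, v => cntC i n v + if v.testBit n && !(Nat.beq i n) then 1 else 0

/-- The power of a in the square of a product of factors. -/
def sqC : ℕ → ℕ → ℕ
  | 0, _ => 0
  | n + 1, v => sqC n v + if v.testBit n then cntC n n v else 0

/-- The tree is valid from the given classes. -/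
def treeB : List (ℕ × ℕ × ℕ) → List ℕ → Bool
  | [], _ => true
  | (w, r, v) :: es, seen =>
    Nat.blt r 7 && seen.contains v && Nat.beq (imgC r 8 v) w && treeB es (w :: seen)

theorem treeB_ok : treeB orbTree [1] = true := by decide +kernel

theorem singular_ok : ((List.range 256).all fun v =>
    Nat.beq v 0 || Nat.beq (sqC 8 v % 2) 1 || Nat.beq v 1 || (orbTree.any fun s => Nat.beq s.1 v)) = true := by
  decide +kernel

theorem act_ok : ((List.range 256).all fun v =>
    Nat.beq (imgC 3 8 (imgC 3 8 v)) v && Nat.beq (imgC 6 8 (imgC 6 8 v)) v) = true := by decide +kernel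

theorem fixE_ok : ∀ v : Fin 256, imgC 3 8 v.val ^^^ v.val = 0 →
    ∃ p : Fin 256, imgC 3 8 p.val ^^^ p.val = v.val := by decide +kernel

theorem fixU_ok : ∀ v : Fin 256, imgC 6 8 v.val ^^^ v.val = 1 →
    ∃ p : Fin 256, imgC 6 8 p.val ^^^ p.val = v.val ^^^ 6 := by decide +kernel

/-- A word conjugating a to c. -/
def confC : List ℕ := [2, 4, 0, 2]

/-- A word conjugating a member of the two-group to e. -/
def confE : List ℕ := [6, 4, 6, 2, 4, 0, 2]

theorem confC_ok : sameM (confC ++ [0]) ([4] ++ confC) = true := by decide +kernel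

theorem confE_ok : sameM ([8] ++ confE) (confE ++ (selW 8 203 ++ [0])) = true := by decide +kernel

theorem twistE_ok : sameM (selW 8 6 ++ [8]) ([8] ++ selW 8 6 ++ [0]) = true := by decide +kernel

theorem sqE_ok : sameM [8, 8] [] = true := by decide +kernel

theorem sqU_ok : sameM [14, 14] ([4] ++ [0]) = true := by decide +kernel

theorem sqUY_ok : sameM (([14] ++ selW 8 6) ++ ([14] ++ selW 8 6)) [0] = true := by decide +kernel

end CfsgLib.ThType.Endgame
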