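import Cfsg.Agent.Lib.ThOut.Cent
import Cfsg.Agent.Lib.ThType.Endgame.ClassData
import Mathlib.GroupTheory.Perm.Cycle.Type

/-!
# One class of involutions in the presented Thompson group

An involution of the centraliser of a lies in the normal two-group, where the singular classes form one orbit, or
acts on it as one of two double transposition types, and then its coset is one class or has no involution.
-/

set_option autoImplicit false
set_option maxRecDepth 100000
set_option linter.unusedSectionVars false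

namespace CfsgLib.ThType.Endgame

open CfsgLib.ThOut Equiv

attribute [local irreducible] qW conjT blocks sameM orbTree

variable [IsSimpleGroup Cfsg.Spor.Th] [Finite Cfsg.Spor.Th]

theorem imgC_eq (r : ℕ) : ∀ n v, imgC r n v = imgN r n v
  | 0, _ => rfl
  | n + 1, v => by rw [imgC, imgN, imgC_eq r n v]

theorem cntC_eq (i : ℕ) : ∀ n v, cntC i n v = cnt i n v
  | 0, _ => rfl
  | n + 1, v => by rw [cntC, cnt, cntC_eq i n v]

/-- The square of a product of factors. -/
theorem sel_sq : ∀ {n : ℕ}, n ≤ 8 → ∀ v, hev (selW n v) * hev (selW n v) = zH ^ sqC n v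
  | 0, _, v => by simp [selW, sqC, hev_nil]
  | n + 1, h, v => by
    rw [selW, hev_append, sqC, cntC_eq, pow_add]
    cases v.testBit n
    · simp [hev_nil, sel_sq (by omega : n ≤ 8) v]
    · simp only [↓reduceIte]
      have hc := sel_comm (i := n) (by omega) (by omega : n ≤ 8) v
      calc hev (selW n v) * hev (qw n) * (hev (selW n v) * hev (qw n))
          = hev (selW n v) * (hev (qw n) * hev (selW n v)) * hev (qw n) := by simp only [mul_assoc]
        _ = hev (selW n v) * (hev (selW n v) * hev (qw n) * zH ^ cnt n n v) * hev (qw n) := by rw [hc]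
        _ = hev (selW n v) * hev (selW n v) * (hev (qw n) * hev (qw n)) * zH ^ cnt n n v := by
            simp only [mul_assoc, (Commute.pow_left (zH_comm (hev (qw n))) (cnt n n v)).eq]
        _ = _ := by rw [sel_sq (by omega : n ≤ 8) v, qq_sq (by omega), mul_one]

/-- Conjugate to a. -/
def IsA (x : Hs) : Prop := IsConj (el 0) (x : Cfsg.Spor.Th)

/-- All elements of a class are conjugate to a. -/
def Good (w : ℕ) : Prop := ∀ x : Hs, bar x = eb 8 w → IsA x

theorem isA_of_conj {x y : Hs} (k : Hs) (h : k * y * k⁻¹ = x) (hy : IsA y) : IsA x := by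
  refine IsConj.trans hy (isConj_iff.2 ⟨(k : Cfsg.Spor.Th), ?_⟩)
  have := congrArg Subtype.val h
  simpa using this

theorem two_of_bar {x y : Hs} (h : bar x = bar y) : x = y ∨ x = y * zH := by
  rcases bar_eq_one.1 (show bar (y⁻¹ * x) = 1 by rw [map_mul, map_inv, h, inv_mul_cancel]) with e | e
  · exact Or.inl (eq_of_inv_mul_eq_one e).symm
  · exact Or.inr (by rw [← e, mul_inv_cancel_left])

theorem isA_zH : IsA zH := by rw [IsA, coe_zH]

theorem ev_singleton' (g : ℕ) : ev [g] = el g := by rw [ev_cons, ev_nil, mul_one]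

theorem isA_c : IsA (hev [4]) := by
  rw [IsA, coe_hev (by decide), ev_singleton']
  refine isConj_iff.2 ⟨ev confC, ?_⟩
  have h := ev_eq confC_ok
  rw [ev_append, ev_append, ev_singleton', ev_singleton'] at h
  rw [h, mul_inv_cancel_right]

theorem good_one : Good 1 := by
  intro x hx
  have hs : selW 8 1 = [4] := by decide +kernel
  rw [eb, hs] at hx
  have hq : hev (qw 0) = hev [4] := congrArg hev (show qw 0 = [4] by decide +kernel)
  rcases two_of_bar hx with rfl | rfl
  · exact isA_c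
  · refine isA_of_conj (hev (qw 1)) ?_ isA_c
    rw [← hq, qq_comm (by norm_num) (by norm_num) (by norm_num : (1 : ℕ) ≠ 0), mul_assoc (hev (qw 0) * hev (qw 1)),
      zH_comm, ← mul_assoc, mul_inv_cancel_right]

theorem tree_good : ∀ {es : List (ℕ × ℕ × ℕ)} {seen : List ℕ}, treeB es seen = true →
    (∀ v ∈ seen, Good v) → (∀ v ∈ seen, v < 256) → ∀ s ∈ es, Good s.1
  | [], _, _, _, _, s, hs => by simp at hs
  | (w, r, v) :: es, seen, h, hg, hl, s, hs => by
    simp only [treeB, Bool.and_eq_true, Nat.blt_eq, List.contains_iff_mem, Nat.beq_eq] at h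
    obtain ⟨⟨⟨hr, hv⟩, hw⟩, hes⟩ := h
    rw [imgC_eq] at hw
    have hgw : Good w := by
      intro x hx
      obtain ⟨G', hG⟩ : ∃ G' : Hs, G' = hel (gL.getD r 0) := ⟨_, rfl⟩
      refine isA_of_conj G' (show G' * (G'⁻¹ * x * G') * G'⁻¹ = x by group) (hg v hv _ ?_)
      have h1 := conj_class hr le_rfl v
      rw [hw, ← hG, ← hx] at h1
      rw [map_mul, map_mul, map_inv, mul_assoc, ← h1, inv_mul_cancel_left]
    rcases List.mem_cons.1 hs with rfl | hs
    · exact hgw
    · exact tree_good hes (List.forall_mem_cons.2 ⟨hgw, hg⟩)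
        (List.forall_mem_cons.2 ⟨hw ▸ imgN_lt hr le_rfl v, hl⟩) s hs

theorem good_mem {w : ℕ} (hw : w = 1 ∨ ∃ s ∈ orbTree, s.1 = w) : Good w := by
  rcases hw with rfl | ⟨s, hs, rfl⟩
  · exact good_one
  · exact tree_good treeB_ok (by simpa using good_one) (by simp) s hs

theorem isA_of_class {x : Hs} (hx2 : x * x = 1) (hx1 : x ≠ 1) {v : ℕ} (hv : v < 256) (hx : bar x = eb 8 v) :
    IsA x := by
  have hsq : sqC 8 v % 2 = 0 := by
    refine zH_pow ?_
    rw [← sel_sq le_rfl v]
    rcases two_of_bar hx with e | e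
    · rw [← e, hx2]
    · calc hev (selW 8 v) * hev (selW 8 v) = x * zH * (x * zH) := by
            rw [e, mul_assoc (hev (selW 8 v)), zH_sq, mul_one]
        _ = x * x * (zH * zH) := by simp only [mul_assoc, ← mul_assoc zH x, zH_comm x]
        _ = 1 := by rw [hx2, zH_sq, mul_one]
  have h := List.all_eq_true.1 singular_ok v (List.mem_range.2 hv)
  simp only [Bool.or_eq_true, Nat.beq_eq, List.any_eq_true] at h
  rcases h with ((rfl | h) | h) | h
  · rw [eb_zero] at hx
    rcases bar_eq_one.1 hx with rfl | rfl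
    · exact absurd rfl hx1
    · exact isA_zH
  · omega
  · exact good_mem (Or.inl h) x hx
  · exact good_mem (Or.inr h) x hx

theorem isA_e : IsA (hel 8) := by
  have h := ev_eq confE_ok
  rw [ev_append, ev_append, ev_singleton'] at h
  have hw : okW (selW 8 203 ++ [0]) = true := okW_append.2 ⟨okW_selW le_rfl _, by decide⟩
  have hg : IsA (hev (selW 8 203 ++ [0])) := by
    refine good_mem (w := 203) (Or.inr ?_) _ ?_
    · have : (orbTree.any fun s => Nat.beq s.1 203) = true := by decide +kernel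
      simpa [List.any_eq_true, Nat.beq_eq] using this
    · rw [hev_append, map_mul, show hev [0] = zH by simp [hev, zH], bar_zH, mul_one]; rfl
  rw [IsA, coe_hel (by decide)]
  rw [IsA, coe_hev hw] at hg
  exact hg.trans (isConj_iff.2 ⟨ev confE, by rw [← h, mul_inv_cancel_right]⟩)

/-- A coset conjugate within the two-group, modulo a. -/
theorem coset_conj {r v v₀ p : ℕ} (hr : r < 7) (hinv : imgN r 8 (imgN r 8 p) = p) (hp : p < 256)
    (h : imgN r 8 p ^^^ p = v ^^^ v₀) :
    bar (hel (gL.getD r 0)) * eb 8 v = eb 8 p * (bar (hel (gL.getD r 0)) * eb 8 v₀) * eb 8 p := by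
  have h1 := conj_class hr le_rfl (imgN r 8 p)
  rw [hinv] at h1
  rw [← mul_assoc (eb 8 p), ← h1, mul_assoc, mul_assoc, ← eb_xor le_rfl, ← eb_xor le_rfl]
  congr 2
  rw [Nat.xor_comm v₀ p, ← Nat.xor_assoc, h, Nat.xor_assoc, Nat.xor_self, Nat.xor_zero]

theorem eb_class {r v c : ℕ} (hr : r < 7) (hv : v < 256) (hc : c < 256) {y : Hs} (hy : y * y = 1)
    (hb : bar y = bar (hel (gL.getD r 0)) * eb 8 v)
    (hsq : bar (hel (gL.getD r 0)) * bar (hel (gL.getD r 0)) = eb 8 c) :
    imgN r 8 v ^^^ v = c := by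
  have h1 : bar y * bar y = 1 := by rw [← map_mul, hy, map_one]
  rw [hb] at h1
  obtain ⟨X, hX⟩ : ∃ X, X = bar (hel (gL.getD r 0)) := ⟨_, rfl⟩
  have h2 := conj_class hr le_rfl v
  rw [← hX] at h1 h2 hsq
  have h3 : eb 8 ((imgN r 8 v ^^^ c) ^^^ v) = eb 8 0 := by
    rw [eb_xor le_rfl, eb_xor le_rfl, ← hsq, eb_zero, ← mul_assoc, ← h2, mul_assoc (X * eb 8 v), h1]
  have hlt := imgN_lt (r := r) hr le_rfl v
  have h4 := eb_inj (Nat.xor_lt_two_pow (n := 8) (Nat.xor_lt_two_pow (n := 8) hlt hc) hv) (by norm_num) h3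
  rw [Nat.xor_assoc, Nat.xor_comm c v, ← Nat.xor_assoc] at h4
  exact Nat.xor_eq_zero_iff.1 h4

theorem isA_coset_e {y : Hs} (hy : y * y = 1) {v : ℕ} (hv : v < 256) (hb : bar y = bar (hel 8) * eb 8 v) :
    IsA y := by
  have hh : hel 8 = hel (gL.getD 3 0) := rfl
  have he : bar (hel (gL.getD 3 0)) * bar (hel (gL.getD 3 0)) = eb 8 0 := by
    have := hev_eq (u := [8, 8]) (v := []) (by decide) rfl sqE_ok
    rw [← hh, ← map_mul, show hel 8 * hel 8 = hev [8, 8] by simp [hev], this, hev_nil, map_one, eb_zero]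
  have hfix := eb_class (r := 3) (by norm_num) hv (by norm_num : 0 < 256) hy (hh ▸ hb) he
  obtain ⟨p, hp⟩ := fixE_ok ⟨v, hv⟩ (by rw [imgC_eq]; exact hfix)
  rw [imgC_eq] at hp
  have hinv := List.all_eq_true.1 act_ok p.val (List.mem_range.2 p.isLt)
  simp only [Bool.and_eq_true, Nat.beq_eq, imgC_eq] at hinv
  have hc := coset_conj (v := v) (v₀ := 0) (by norm_num : (3 : ℕ) < 7) hinv.1 p.isLt (hp.trans (Nat.xor_zero v).symm)
  rw [eb_zero, mul_one, ← hh] at hc
  have hpi : eb 8 p.val * eb 8 p.val = 1 := eb_sq le_rfl _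
  obtain ⟨P, hP⟩ : ∃ P : Hs, P = hev (selW 8 p.val) := ⟨_, rfl⟩
  have hbP : bar y = bar (P * hel 8 * P⁻¹) := by
    rw [hb, hc, map_mul, map_mul, map_inv, hP]
    exact congrArg _ (inv_eq_of_mul_eq_one_right hpi).symm
  rcases two_of_bar hbP with rfl | rfl
  · exact isA_of_conj P rfl isA_e
  · refine isA_of_conj (P * hev (selW 8 6)) ?_ isA_e
    have ht := hev_eq (u := selW 8 6 ++ [8]) (v := [8] ++ selW 8 6 ++ [0])
      (okW_append.2 ⟨okW_selW le_rfl _, by decide⟩)
      (okW_append.2 ⟨okW_append.2 ⟨by decide, okW_selW le_rfl _⟩, by decide⟩) twistE_ok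
    rw [hev_append, hev_append, hev_append, show hev [8] = hel 8 by simp [hev],
      show hev [0] = zH by simp [hev, zH]] at ht
    calc P * hev (selW 8 6) * hel 8 * (P * hev (selW 8 6))⁻¹
        = P * (hev (selW 8 6) * hel 8) * (hev (selW 8 6))⁻¹ * P⁻¹ := by group
      _ = P * (hel 8 * zH * hev (selW 8 6)) * (hev (selW 8 6))⁻¹ * P⁻¹ := by
          rw [ht, mul_assoc (hel 8) (hev (selW 8 6)) zH, ← zH_comm, mul_assoc (hel 8) zH]
      _ = P * hel 8 * (zH * P⁻¹) := by group
      _ = P * hel 8 * P⁻¹ * zH := by rw [zH_comm, ← mul_assoc]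

theorem not_invol_coset_u {y : Hs} (hy : y * y = 1) {v : ℕ} (hv : v < 256) (hb : bar y = bar (hel 14) * eb 8 v) :
    False := by
  have hh : hel 14 = hel (gL.getD 6 0) := rfl
  have he : bar (hel (gL.getD 6 0)) * bar (hel (gL.getD 6 0)) = eb 8 1 := by
    have := hev_eq (u := [14, 14]) (v := [4] ++ [0]) (by decide) (by decide) sqU_ok
    rw [← hh, ← map_mul, show hel 14 * hel 14 = hev [14, 14] by simp [hev], this, hev_append, map_mul,
      show hev [0] = zH by simp [hev, zH], bar_zH, mul_one, eb, show selW 8 1 = [4] by decide +kernel]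
  have hfix := eb_class (r := 6) (by norm_num) hv (by norm_num : 1 < 256) hy (hh ▸ hb) he
  obtain ⟨p, hp⟩ := fixU_ok ⟨v, hv⟩ (by rw [imgC_eq]; exact hfix)
  rw [imgC_eq] at hp
  have hinv := List.all_eq_true.1 act_ok p.val (List.mem_range.2 p.isLt)
  simp only [Bool.and_eq_true, Nat.beq_eq, imgC_eq] at hinv
  have hc := coset_conj (v := v) (v₀ := 6) (by norm_num : (6 : ℕ) < 7) hinv.2 p.isLt hp
  rw [← hh] at hc
  obtain ⟨P, hP⟩ : ∃ P : Hs, P = hev (selW 8 p.val) := ⟨_, rfl⟩
  obtain ⟨Y, hY⟩ : ∃ Y : Hs, Y = hev ([14] ++ selW 8 6) := ⟨_, rfl⟩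
  have hpi : eb 8 p.val * eb 8 p.val = 1 := eb_sq le_rfl _
  have hbP : bar y = bar (P * Y * P⁻¹) := by
    rw [hb, hc, map_mul, map_mul, map_inv, hP, hY, hev_append, show hev [14] = hel 14 by simp [hev], map_mul]
    exact congrArg _ (inv_eq_of_mul_eq_one_right hpi).symm
  have hY2 : Y * Y = zH := by
    have := hev_eq (u := ([14] ++ selW 8 6) ++ ([14] ++ selW 8 6)) (v := [0])
      (okW_append.2 ⟨okW_append.2 ⟨by decide, okW_selW le_rfl _⟩, okW_append.2 ⟨by decide, okW_selW le_rfl _⟩⟩)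
      (by decide) sqUY_ok
    rw [hev_append, ← hY] at this
    rw [this]; simp [hev, zH]
  apply zH_ne
  have hPY : P * Y * P⁻¹ * (P * Y * P⁻¹) = zH := by
    rw [show P * Y * P⁻¹ * (P * Y * P⁻¹) = P * (Y * Y) * P⁻¹ by group, hY2, ← zH_comm, mul_inv_cancel_right]
  rcases two_of_bar hbP with rfl | rfl
  · rw [← hPY, hy]
  · rw [← hPY, ← hy]
    calc P * Y * P⁻¹ * (P * Y * P⁻¹) = P * Y * P⁻¹ * (P * Y * P⁻¹) * (zH * zH) := by rw [zH_sq, mul_one]
      _ = P * Y * P⁻¹ * zH * (P * Y * P⁻¹ * zH) := by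
          simp only [mul_assoc, ← mul_assoc zH P, zH_comm P, ← mul_assoc zH Y, zH_comm Y,
            ← mul_assoc zH P⁻¹, zH_comm P⁻¹]

/-- An involution of the alternating group of degree nine is conjugate to one of two. -/
theorem perm_cases (σ : Perm (Fin 9)) (hσ : σ ∈ alternatingGroup (Fin 9)) (h2 : σ * σ = 1) (h1 : σ ≠ 1) :
    ∃ τ ∈ alternatingGroup (Fin 9), τ * σ * τ⁻¹ = permE 8 ∨ τ * σ * τ⁻¹ = permE 14 := by
  have hct : ∀ ρ : Perm (Fin 9), ρ * ρ = 1 → ρ.cycleType = Multiset.replicate (Multiset.card ρ.cycleType) 2 := by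
    intro ρ hρ
    refine Multiset.eq_replicate_card.2 fun k hk => ?_
    have h := (Equiv.Perm.dvd_of_mem_cycleType hk).trans (orderOf_dvd_of_pow_eq_one (show ρ ^ 2 = 1 by rw [pow_two]; exact hρ))
    have := Equiv.Perm.two_le_of_mem_cycleType hk
    have := Nat.le_of_dvd two_pos h
    omega
  have hsum : ∀ ρ : Perm (Fin 9), ρ * ρ = 1 → 2 * Multiset.card ρ.cycleType = ρ.support.card := by
    intro ρ hρ
    rw [← Equiv.Perm.sum_cycleType]
    conv_rhs => rw [hct ρ hρ, Multiset.sum_replicate, smul_eq_mul, mul_comm]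
  have hle : 2 * Multiset.card σ.cycleType ≤ 9 := by
    rw [hsum σ h2]
    exact le_trans (Finset.card_le_univ _) (by simp)
  have hne : Multiset.card σ.cycleType ≠ 0 := by
    rw [Ne, Multiset.card_eq_zero, Equiv.Perm.cycleType_eq_zero]; exact h1
  have hev : Even (Multiset.card σ.cycleType) := by
    have hs : Equiv.Perm.sign σ = 1 := Equiv.Perm.mem_alternatingGroup.1 hσ
    rw [Equiv.Perm.sign_of_cycleType, hct σ h2, Multiset.sum_replicate, Multiset.card_replicate, smul_eq_mul,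
      pow_add, mul_comm _ 2, pow_mul, Int.units_sq, one_pow, one_mul] at hs
    exact (neg_one_pow_eq_one_iff_even (by decide : (-1 : ℤˣ) ≠ 1)).1 hs
  obtain ⟨k, hk⟩ := hev
  have key : ∀ (g : ℕ) (w : Perm (Fin 9)), permE g * permE g = 1 → Equiv.Perm.sign w = -1 →
      w * permE g * w⁻¹ = permE g → (permE g).support.card = 2 * Multiset.card σ.cycleType →
      ∃ τ ∈ alternatingGroup (Fin 9), τ * σ * τ⁻¹ = permE g := by
    intro g w hg hw hwg hcard
    have hcc : Multiset.card (permE g).cycleType = Multiset.card σ.cycleType := by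
      have := hsum (permE g) hg
      omega
    obtain ⟨τ, hτ⟩ := isConj_iff.1 (Equiv.Perm.isConj_iff_cycleType_eq.2
      ((hct σ h2).trans ((congrArg (Multiset.replicate · 2) hcc.symm).trans (hct _ hg).symm)))
    rcases Int.units_eq_one_or (Equiv.Perm.sign τ) with hs | hs
    · exact ⟨τ, Equiv.Perm.mem_alternatingGroup.2 hs, hτ⟩
    · refine ⟨w * τ, Equiv.Perm.mem_alternatingGroup.2 (by rw [map_mul, hw, hs]; decide), ?_⟩
      rw [show w * τ * σ * (w * τ)⁻¹ = w * (τ * σ * τ⁻¹) * w⁻¹ by group, hτ, hwg]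
  rcases (by omega : k = 1 ∨ k = 2) with rfl | rfl
  · obtain ⟨τ, hτ, e⟩ := key 14 (Equiv.swap 3 7) (by decide +kernel) (by decide +kernel) (by decide +kernel)
      (by rw [hk]; decide +kernel)
    exact ⟨τ, hτ, Or.inr e⟩
  · obtain ⟨τ, hτ, e⟩ := key 8 (Equiv.swap 1 2) (by decide +kernel) (by decide +kernel) (by decide +kernel)
      (by rw [hk]; decide +kernel)
    exact ⟨τ, hτ, Or.inl e⟩

/-- Every involution of the centraliser of a is conjugate to a. -/
theorem isA_of_invol (hC : Nat.card (Subgroup.centralizer ({el 0} : Set Cfsg.Spor.Th)) ≤ 92897280)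
    {x : Hs} (hx2 : x * x = 1) (hx1 : x ≠ 1) : IsA x := by
  by_cases hpx : piA x = 1
  · obtain ⟨v, hv, hb⟩ := (piA_eq_one hC).1 hpx
    exact isA_of_class hx2 hx1 hv hb
  · obtain ⟨τ, hτ, hcase⟩ := perm_cases (pi x) (pi_mem x) (by rw [← map_mul, hx2, map_one])
      (fun h => hpx (Subtype.ext h))
    obtain ⟨k, hk⟩ := piA_surjective ⟨τ, hτ⟩
    have hk' : pi k = τ := congrArg Subtype.val hk
    obtain ⟨y, hy⟩ : ∃ y, y = k * x * k⁻¹ := ⟨_, rfl⟩
    have hy2 : y * y = 1 := by
      rw [hy, show k * x * k⁻¹ * (k * x * k⁻¹) = k * (x * x) * k⁻¹ by group, hx2, mul_one, mul_inv_cancel]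
    have hq : ∀ g ∈ gL, τ * pi x * τ⁻¹ = permE g → ∃ v < 256, bar y = bar (hel g) * eb 8 v := by
      intro g hg he
      have hpy : pi (hel g) = pi y := by
        rw [pi_eq (rep_hel hg), hy, map_mul, map_mul, map_inv, hk', he]
      obtain ⟨v, hv, hb⟩ := (piA_eq_one hC).1 (show piA ((hel g)⁻¹ * y) = 1 from Subtype.ext (by
        rw [coe_piA, map_mul, map_inv, hpy, inv_mul_cancel]; rfl))
      exact ⟨v, hv, by rw [← hb, ← map_mul, mul_inv_cancel_left]⟩
    refine isA_of_conj k⁻¹ (show k⁻¹ * y * k⁻¹⁻¹ = x by rw [hy]; group) ?_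
    rcases hcase with he | he
    · obtain ⟨v, hv, hb⟩ := hq 8 (by decide) he
      exact isA_coset_e hy2 hv hb
    · obtain ⟨v, hv, hb⟩ := hq 14 (by decide) he
      exact (not_invol_coset_u hy2 hv hb).elim

end CfsgLib.ThType.Endgame
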