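import Cfsg.Agent.Lib.ThType.Endgame.CheckA
import Cfsg.Agent.Lib.ThType.Endgame.CheckB

/-!
# The fixed spaces of elements of order thirty-one and nineteen, and no element of order 589
-/

set_option autoImplicit false
set_option linter.unusedSectionVars false
set_option maxRecDepth 100000

namespace CfsgLib.ThType.Endgame

open CfsgLib.ThOut CfsgLib.ThRep CfsgLib.ThRep.ModThree Matrix

variable [IsSimpleGroup Cfsg.Spor.Th] [Finite Cfsg.Spor.Th]

attribute [local irreducible] basisA basisB dualA dualB packA packB packAPerm packBPerm matGens lm mulF evFrom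

theorem coef_spOf : ∀ (r : List ℕ) (k : ℕ), coef (spOf r) k = ((r.getD k 0 : ℕ) : ZMod 3)
  | [], k => by simp [spOf, coef]
  | v :: r, 0 => by simp [spOf, coef]
  | v :: r, k + 1 => by
    have h := coef_spOf r k
    simp only [spOf] at h
    simp [spOf, coef, h]

theorem evFrom_spec (w : List ℕ) (hw : ∀ g ∈ w, g < 16) {Y : List (List ℕ)} (hY : Good 248 Y)
    (hl : Y.length = 248) : ∃ Z, evFrom w (Y.map pk) = Z.map pk ∧ Good 248 Z ∧ Z.length = 248 ∧
      toMat 248 Z = (w.map lm).prod * toMat 248 Y := by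
  induction w with
  | nil => exact ⟨Y, by unfold evFrom; rfl, hY, hl, by simp⟩
  | cons g w ih =>
    obtain ⟨Z, e1, e2, e3, e4⟩ := ih fun x hx => hw x (List.mem_cons_of_mem _ hx)
    have hg : okGen 248 (matGens.getD g []) = true :=
      List.all_eq_true.1 matGens_ok g (List.mem_range.2 (hw g List.mem_cons_self))
    obtain ⟨m1, m2, m3⟩ := mul_spec hg e2
    refine ⟨mulL 248 (matGens.getD g []) Z, ?_, m2, m3, ?_⟩
    · have e : evFrom (g :: w) (Y.map pk) = mulF (matGens.getD g []) (evFrom w (Y.map pk)) := by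
        unfold evFrom; rfl
      rw [e, e1, mulF_eq]; exact m1
    · rw [toMat_mul hg e2 e3, e4, List.map_cons, List.prod_cons, Matrix.mul_assoc]
      unfold lm
      rfl

theorem list_eq_of_pk {Z W : List (List ℕ)} (hZ : Good 248 Z) (hW : Good 248 W) (h : Z.map pk = W.map pk) :
    Z = W := by
  have hl : Z.length = W.length := by simpa using congrArg List.length h
  refine List.ext_getElem hl fun i h1 h2 => ?_
  have e := congrArg (fun l : List ℕ => l.getD i 0) h
  rw [List.getD_eq_getElem _ 0 (by simpa using h1), List.getD_eq_getElem _ 0 (by simpa using h2),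
    List.getElem_map, List.getElem_map] at e
  obtain ⟨l1, c1⟩ := hZ _ (List.getElem_mem h1)
  obtain ⟨l2, c2⟩ := hW _ (List.getElem_mem h2)
  exact pk_inj (l1.trans l2.symm) c1 c2 e

theorem rowsOf_entry {P : List ℕ} (hP : P.length = 248) (i j : Fin 248) :
    ((rowsOf P).getD i.val []).getD j.val 0 = Nat.mod (Nat.shiftRight (P.getD i.val 0) (2 * j.val)) 4 := by
  have hi : i.val < (rowsOf P).length := by rw [rowsOf, List.length_map, hP]; exact i.isLt
  rw [List.getD_eq_getElem _ _ hi]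
  simp only [rowsOf, List.getElem_map, rowOf]
  rw [List.getD_eq_getElem _ _ (by simp), List.getD_eq_getElem _ _ (hP.symm ▸ i.isLt)]
  simp

theorem permRows_entry {o m : ℕ} {P : List ℕ} (hP : P.length = 248) (i j : Fin 248) :
    ((permRows o m P).getD i.val []).getD j.val 0 =
      Nat.mod (Nat.shiftRight (P.getD i.val 0) (2 * sig o m j.val)) 4 := by
  have hi : i.val < (permRows o m P).length := by rw [permRows, List.length_map, hP]; exact i.isLt
  rw [List.getD_eq_getElem _ _ hi]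
  simp only [permRows, List.getElem_map]
  rw [List.getD_eq_getElem _ _ (by simp), List.getD_eq_getElem _ _ (hP.symm ▸ i.isLt)]
  simp

/-- The facts about a permuted basis. -/
theorem basis_facts {o m : ℕ} {w P Q pP pS : List ℕ} (hg : goodOk P = true)
    (hp : beqL ((rowsOf P).map pk) pP = true) (hs : beqL ((permRows o m P).map pk) pS = true)
    (hd : dualOk pP Q = true) (hm : moveOk w pP pS = true) (σ : Equiv.Perm (Fin 248))
    (hσ : ∀ j : Fin 248, (σ j : ℕ) = sig o m j.val) :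
    ∃ (A B : Matrix (Fin 248) (Fin 248) (ZMod 3)), B * A = 1 ∧
      ((rho (ThOut.ev w) : GL (Fin 248) (ZMod 3)) : Matrix (Fin 248) (Fin 248) (ZMod 3)) * A =
        Matrix.of fun i j => A i (σ j) := by
  simp only [goodOk, Bool.and_eq_true, Nat.beq_eq, List.all_eq_true, Nat.blt_eq] at hg
  obtain ⟨hPl, hP3⟩ := hg
  have hgood : Good 248 (rowsOf P) := fun y hy => by
    refine ⟨?_, hP3 y hy⟩
    obtain ⟨r, -, rfl⟩ := List.mem_map.1 hy
    simp [rowOf]
  have hlen : (rowsOf P).length = 248 := by rw [rowsOf, List.length_map, hPl]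
  have hgoodS : Good 248 (permRows o m P) := by
    intro y hy
    obtain ⟨r, hr, rfl⟩ := List.mem_map.1 hy
    refine ⟨by simp, fun a ha => ?_⟩
    obtain ⟨j, hj, rfl⟩ := List.mem_map.1 ha
    have hs' : sig o m j < 248 := by rw [← hσ ⟨j, List.mem_range.1 hj⟩]; exact Fin.isLt _
    exact hP3 (rowOf r) (List.mem_map.2 ⟨r, hr, rfl⟩) _ (List.mem_map.2 ⟨_, List.mem_range.2 hs', rfl⟩)
  have ep := eq_of_beqL hp
  have es := eq_of_beqL hs
  simp only [dualOk, Bool.and_eq_true] at hd
  simp only [moveOk, Bool.and_eq_true, List.all_eq_true, Nat.blt_eq] at hm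
  obtain ⟨Z, z1, z2, z3, z4⟩ := evFrom_spec w hm.1 hgood hlen
  have hZ : Z = permRows o m P := list_eq_of_pk z2 hgoodS (by rw [← z1, ep, es]; exact eq_of_beqL hm.2)
  obtain ⟨m1, m2, m3⟩ := mul_spec hd.1 hgood
  have hQ : mulL 248 ((rowsOf Q).map spOf) (rowsOf P) = idL 248 := by
    refine list_eq_of_pk m2 idL_good ?_
    rw [← m1, ← mulF_eq, ep, eq_of_beqL hd.2]
    exact mat_hid
  refine ⟨toMat 248 (rowsOf P), genMat 248 ((rowsOf Q).map spOf), ?_, ?_⟩
  · rw [← toMat_mul hd.1 hgood hlen, hQ, toMat_idL]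
  · rw [ThOut.rho_ev hm.1, ← z4, hZ]
    ext i j
    simp only [toMat, Matrix.of_apply]
    rw [permRows_entry hPl, rowsOf_entry hPl, hσ]

section Generic

variable {N : ℕ} {M : Type*} [Group M] (ρ : M →* GL (Fin N) (ZMod 3))

/-- The fixed vectors of an element. -/
def fixV (g : M) : AddSubgroup (Fin N → ZMod 3) where
  carrier := {v | ((ρ g : GL (Fin N) (ZMod 3)) : Matrix (Fin N) (Fin N) (ZMod 3)) *ᵥ v = v}
  zero_mem' := by simp
  add_mem' := fun {a b} ha hb => by
    simp only [Set.mem_ofPred_eq] at *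
    rw [Matrix.mulVec_add, ha, hb]
  neg_mem' := fun {a} ha => by
    simp only [Set.mem_ofPred_eq] at *
    rw [Matrix.mulVec_neg, ha]

theorem mem_fixV {g : M} {v : Fin N → ZMod 3} :
    v ∈ fixV ρ g ↔ ((ρ g : GL (Fin N) (ZMod 3)) : Matrix (Fin N) (Fin N) (ZMod 3)) *ᵥ v = v := Iff.rfl

theorem act_mul (g h : M) (v : Fin N → ZMod 3) :
    ((ρ (g * h) : GL (Fin N) (ZMod 3)) : Matrix (Fin N) (Fin N) (ZMod 3)) *ᵥ v =
      ((ρ g : GL (Fin N) (ZMod 3)) : Matrix (Fin N) (Fin N) (ZMod 3)) *ᵥ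
        (((ρ h : GL (Fin N) (ZMod 3)) : Matrix (Fin N) (Fin N) (ZMod 3)) *ᵥ v) := by
  rw [map_mul, Units.val_mul, Matrix.mulVec_mulVec]

theorem act_one (v : Fin N → ZMod 3) :
    ((ρ 1 : GL (Fin N) (ZMod 3)) : Matrix (Fin N) (Fin N) (ZMod 3)) *ᵥ v = v := by
  rw [map_one, Units.val_one, Matrix.one_mulVec]

/-- An element permuting a basis in blocks fixes as many vectors as there are functions on the blocks. -/
theorem card_fixV (hρ : Function.Injective ρ) {o m d : ℕ} {g : M} {A B : Matrix (Fin N) (Fin N) (ZMod 3)} (σ : Equiv.Perm (Fin N))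
    (hσ : ∀ j : Fin N, (σ j : ℕ) = sig o m j.val) (hBA : B * A = 1)
    (hgA : ((ρ g : GL (Fin N) (ZMod 3)) : Matrix (Fin N) (Fin N) (ZMod 3)) * A = Matrix.of fun i j => A i (σ j))
    (ho : 0 < o) (hlt : ∀ c : Fin d, c.val * o < N) (hd : ∀ j : Fin N, j.val / o < d)
    (hblock : ∀ j : ℕ, j < N → (j < m → j / o * o + o ≤ m) ∧ (m ≤ j → j / o * o = j))
    (hfull : ∀ c : Fin d, c.val * o / o = c.val) :
    Nat.card (fixV ρ g) = 3 ^ d ∧ (g ^ o = 1 ∨ (o = 0)) := by
  have hAB : A * B = 1 := mul_eq_one_comm.1 hBA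
  have hinjA : ∀ {u v : Fin N → ZMod 3}, A *ᵥ u = A *ᵥ v → u = v := fun {u v} h => by
    rw [← Matrix.one_mulVec u, ← hBA, ← Matrix.mulVec_mulVec, h, Matrix.mulVec_mulVec, hBA, Matrix.one_mulVec]
  have hmove : ∀ u : Fin N → ZMod 3,
      ((ρ g : GL (Fin N) (ZMod 3)) : Matrix (Fin N) (Fin N) (ZMod 3)) *ᵥ (A *ᵥ u) = A *ᵥ (u ∘ σ.symm) := by
    intro u
    rw [Matrix.mulVec_mulVec, hgA]
    ext i
    simp only [Matrix.mulVec, dotProduct, Matrix.of_apply, Function.comp]
    exact Fintype.sum_equiv σ _ _ fun j => by rw [Equiv.symm_apply_apply]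
  have hfix : ∀ u : Fin N → ZMod 3, A *ᵥ u ∈ fixV ρ g ↔ ∀ j, u (σ j) = u j := by
    intro u
    rw [mem_fixV, hmove]
    refine ⟨fun h j => ?_, fun h => ?_⟩
    · have := congrFun (hinjA h) (σ j)
      simpa using this.symm
    · congr 1
      funext j
      show u (σ.symm j) = u j
      rw [← h (σ.symm j), Equiv.apply_symm_apply]
  have hpow : ∀ n : ℕ, ∀ u : Fin N → ZMod 3,
      ((ρ (g ^ n) : GL (Fin N) (ZMod 3)) : Matrix (Fin N) (Fin N) (ZMod 3)) *ᵥ (A *ᵥ u) =
        A *ᵥ (u ∘ (σ ^ n).symm) := by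
    intro n
    induction n with
    | zero => intro u; rw [pow_zero, act_one]; rfl
    | succ n ih =>
      intro u
      rw [pow_succ, act_mul, hmove, ih]
      congr 1
      funext j
      show u (σ.symm ((σ ^ n).symm j)) = u ((σ ^ (n + 1)).symm j)
      rw [pow_succ]; rfl
  -- the powers of the permutation
  have hk : ∀ (k : ℕ) (j : Fin N), ((σ ^ k) j : ℕ) = if j.val < m then j.val / o * o + (j.val % o + k) % o else j.val := by
    intro k
    induction k with
    | zero =>
      intro j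
      rw [pow_zero, Equiv.Perm.one_apply]
      split
      · rw [add_zero, Nat.mod_mod, Nat.div_add_mod']
      · rfl
    | succ k ih =>
      intro j
      rw [pow_succ', Equiv.Perm.mul_apply, hσ, sig, ih]
      by_cases hj : j.val < m
      · have h1 := (hblock j.val j.isLt).1 hj
        have h2 : (j.val % o + k) % o < o := Nat.mod_lt _ ho
        rw [if_pos hj, if_pos hj, if_pos (by omega)]
        have e1 : (j.val / o * o + (j.val % o + k) % o) / o = j.val / o := by
          rw [Nat.add_comm, Nat.add_mul_div_right _ _ ho, Nat.div_eq_of_lt h2, Nat.zero_add]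
        have e2 : (j.val / o * o + (j.val % o + k) % o) % o = (j.val % o + k) % o := by
          rw [Nat.add_comm, Nat.add_mul_mod_self_right, Nat.mod_mod]
        rw [e1, e2, Nat.mod_add_mod, Nat.add_assoc]
      · rw [if_neg hj, if_neg hj, if_neg hj]
  have hcls : ∀ j : Fin N, ∃ k, ((σ ^ k) ⟨j.val / o * o, lt_of_le_of_lt (Nat.div_mul_le_self _ _) j.isLt⟩) = j := by
    intro j
    by_cases hj : j.val < m
    · refine ⟨j.val % o, Fin.ext ?_⟩
      rw [hk]
      simp only
      rw [if_pos (lt_of_le_of_lt (Nat.div_mul_le_self _ _) hj), Nat.mul_div_cancel _ ho, Nat.mul_mod_left,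
        Nat.zero_add, Nat.mod_mod, Nat.div_add_mod']
    · refine ⟨0, Fin.ext ?_⟩
      rw [pow_zero, Equiv.Perm.one_apply]
      exact (hblock j.val j.isLt).2 (not_lt.1 hj)
  refine ⟨?_, Or.inl ?_⟩
  · have hinv : ∀ u : Fin N → ZMod 3, (∀ j, u (σ j) = u j) → ∀ k j, u ((σ ^ k) j) = u j := by
      intro u hu k
      induction k with
      | zero => intro j; rfl
      | succ k ih => intro j; rw [pow_succ', Equiv.Perm.mul_apply, hu, ih]
    let f : (Fin d → ZMod 3) → fixV ρ g := fun c => ⟨A *ᵥ fun j => c ⟨j.val / o, hd j⟩, (hfix _).2 fun j => by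
      have h1 := hσ j
      rw [sig] at h1
      have : (σ j : ℕ) / o = j.val / o := by
        by_cases hj : j.val < m
        · rw [h1, if_pos hj, Nat.add_comm, Nat.add_mul_div_right _ _ ho,
            Nat.div_eq_of_lt (Nat.mod_lt _ ho), Nat.zero_add]
        · rw [h1, if_neg hj]
      simp only [this]⟩
    have hb : Function.Bijective f := by
      refine ⟨fun c c' h => funext fun k => ?_, fun v => ?_⟩
      · have := congrFun (hinjA (congrArg Subtype.val h)) ⟨k.val * o, hlt k⟩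
        simpa [hfull k] using this
      · obtain ⟨u, hu⟩ : ∃ u, u = B *ᵥ v.1 := ⟨_, rfl⟩
        have hv : A *ᵥ u = v.1 := by rw [hu, Matrix.mulVec_mulVec, hAB, Matrix.one_mulVec]
        have hc := (hfix u).1 (by rw [hv]; exact v.2)
        refine ⟨fun k => u ⟨k.val * o, hlt k⟩, Subtype.ext ?_⟩
        show A *ᵥ _ = v.1
        rw [← hv]
        congr 1
        funext j
        obtain ⟨k, hkj⟩ := hcls j
        conv_rhs => rw [← hkj, hinv u hc k]
    rw [← Nat.card_eq_of_bijective f hb, Nat.card_fun, Nat.card_zmod, Nat.card_fin]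
  · have hone : σ ^ o = 1 := Equiv.ext fun j => Fin.ext (by
      rw [hk]
      split
      · rw [Nat.add_mod_right, Nat.mod_mod, Nat.div_add_mod']; rfl
      · rfl)
    refine hρ (Units.ext ?_)
    rw [map_one, Units.val_one]
    refine Matrix.ext_of_mulVec_single fun i => ?_
    have h : ((ρ (g ^ o) : GL (Fin N) (ZMod 3)) : Matrix (Fin N) (Fin N) (ZMod 3)) *ᵥ (A *ᵥ (B *ᵥ Pi.single i 1)) =
        A *ᵥ (B *ᵥ Pi.single i 1) := by
      rw [hpow o, hone]; rfl
    rw [Matrix.mulVec_mulVec _ A B, hAB, Matrix.one_mulVec] at h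
    rw [h, Matrix.one_mulVec]

/-- The fixed space depends only on the conjugacy class of the cyclic group. -/
theorem card_fixV_eq [Finite M] {p : ℕ} (hp : p.Prime) (hfac : (Nat.card M).factorization p = 1)
    {x₀ x : M} (h₀ : orderOf x₀ = p) (h : orderOf x = p) : Nat.card (fixV ρ x) = Nat.card (fixV ρ x₀) := by
  haveI := Fact.mk hp
  let P : Sylow p M := Sylow.ofCard (Subgroup.zpowers x₀) (by rw [Nat.card_zpowers, h₀, hfac, pow_one])
  let Q : Sylow p M := Sylow.ofCard (Subgroup.zpowers x) (by rw [Nat.card_zpowers, h, hfac, pow_one])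
  obtain ⟨k, hk⟩ := MulAction.exists_smul_eq M P Q
  have he : Subgroup.zpowers x = Subgroup.zpowers (k * x₀ * k⁻¹) := by
    have := congrArg (fun S : Sylow p M => (S : Subgroup M)) hk
    simp only [Sylow.coe_subgroup_smul, Subgroup.pointwise_smul_def] at this
    refine Eq.trans ?_ (MonoidHom.map_zpowers (MulAut.conj k).toMonoidHom x₀)
    exact this.symm
  have hsame : ∀ {a b : M}, b ∈ Subgroup.zpowers a → ∀ v ∈ fixV ρ a, v ∈ fixV ρ b := by
    intro a b hb v hv
    obtain ⟨n, rfl⟩ := (Submonoid.mem_powers_iff _ _).1 (mem_powers_iff_mem_zpowers.2 hb)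
    clear hb
    induction n with
    | zero => rw [pow_zero]; exact act_one ρ v
    | succ n ih => rw [mem_fixV, pow_succ, act_mul, hv]; exact ih
  have heq : fixV ρ x = fixV ρ (k * x₀ * k⁻¹) := le_antisymm
    (fun v hv => hsame (he ▸ Subgroup.mem_zpowers _) v hv)
    (fun v hv => hsame (he.symm ▸ Subgroup.mem_zpowers x) v hv)
  rw [heq]
  symm
  refine Nat.card_congr
    { toFun := fun v => ⟨((ρ k : GL (Fin N) (ZMod 3)) : Matrix (Fin N) (Fin N) (ZMod 3)) *ᵥ v.1, ?_⟩
      invFun := fun v => ⟨((ρ k⁻¹ : GL (Fin N) (ZMod 3)) : Matrix (Fin N) (Fin N) (ZMod 3)) *ᵥ v.1, ?_⟩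
      left_inv := fun v => Subtype.ext (by simp only; rw [← act_mul, inv_mul_cancel, act_one])
      right_inv := fun v => Subtype.ext (by simp only; rw [← act_mul, mul_inv_cancel, act_one]) }
  · rw [mem_fixV, ← act_mul, inv_mul_cancel_right, act_mul, (mem_fixV ρ).1 v.2]
  · rw [mem_fixV, ← act_mul, show x₀ * k⁻¹ = k⁻¹ * (k * x₀ * k⁻¹) by group, act_mul, (mem_fixV ρ).1 v.2]

/-- Orbit counting for an element of order `p` on the fixed space of an element commuting with it. -/
theorem fixV_modEq [Finite M] {p i : ℕ} [Fact p.Prime] {x y : M} (hx : orderOf x = p) (hxy : Commute x y)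
    (hi : Nat.card (fixV ρ x) = 3 ^ i) :
    ∃ j ≤ i, Nat.card (fixV ρ y) ≡ 3 ^ j [MOD p] := by
  have hstab : ∀ g ∈ Subgroup.zpowers x, ∀ v ∈ fixV ρ y,
      ((ρ g : GL (Fin N) (ZMod 3)) : Matrix (Fin N) (Fin N) (ZMod 3)) *ᵥ v ∈ fixV ρ y := by
    intro g hg v hv
    obtain ⟨n, rfl⟩ := Subgroup.mem_zpowers_iff.1 hg
    rw [mem_fixV, ← act_mul, ← (hxy.zpow_left n).eq, act_mul, (mem_fixV ρ).1 hv]
  let act : MulAction (Subgroup.zpowers x) (fixV ρ y) :=
    { smul := fun g v => ⟨((ρ g.1 : GL (Fin N) (ZMod 3)) : Matrix (Fin N) (Fin N) (ZMod 3)) *ᵥ v.1,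
        hstab g.1 g.2 v.1 v.2⟩
      one_smul := fun v => Subtype.ext (act_one ρ v.1)
      mul_smul := fun g h v => Subtype.ext (act_mul ρ g.1 h.1 v.1) }
  letI := act
  have hp : IsPGroup p (Subgroup.zpowers x) := IsPGroup.of_card (n := 1) (by rw [Nat.card_zpowers, hx, pow_one])
  have hmod := hp.card_modEq_card_fixedPoints (fixV ρ y)
  let J : AddSubgroup (fixV ρ x) := (fixV ρ y).addSubgroupOf (fixV ρ x)
  have hfp : Nat.card (MulAction.fixedPoints (Subgroup.zpowers x) (fixV ρ y)) = Nat.card J := by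
    refine Nat.card_congr
      { toFun := fun v => ⟨⟨v.1.1, congrArg Subtype.val (v.2 ⟨x, Subgroup.mem_zpowers x⟩)⟩, v.1.2⟩
        invFun := fun v => ⟨⟨v.1.1, v.2⟩, fun g => Subtype.ext ?_⟩
        left_inv := fun _ => rfl
        right_inv := fun _ => rfl }
    show ((ρ g.1 : GL (Fin N) (ZMod 3)) : Matrix (Fin N) (Fin N) (ZMod 3)) *ᵥ v.1.1 = v.1.1
    obtain ⟨n, hn⟩ := (Submonoid.mem_powers_iff _ _).1 (mem_powers_iff_mem_zpowers.2 g.2)
    rw [← hn]
    clear hn
    induction n with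
    | zero => rw [pow_zero]; exact act_one ρ _
    | succ n ih => rw [pow_succ, act_mul, (mem_fixV ρ).1 v.1.2]; exact ih
  obtain ⟨j, hj, hjc⟩ := (Nat.dvd_prime_pow (by norm_num : Nat.Prime 3)).1 (hi ▸ AddSubgroup.card_addSubgroup_dvd_card J)
  exact ⟨j, hj, by rw [← hjc, ← hfp]; exact hmod⟩

theorem fixV_one : Nat.card (fixV ρ 1) = 3 ^ N := by
  rw [show fixV ρ 1 = ⊤ from eq_top_iff.2 fun v _ => act_one ρ v, AddSubgroup.card_top, Nat.card_fun,
    Nat.card_zmod, Nat.card_fin]

end Generic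

/-- The shift as a permutation. -/
def shift (o m : ℕ) (h : ∀ j : Fin 248, sig o m j.val < 248 ∧ sig' o m j.val < 248 ∧
    sig' o m (sig o m j.val) = j.val ∧ sig o m (sig' o m j.val) = j.val) : Equiv.Perm (Fin 248) where
  toFun j := ⟨_, (h j).1⟩
  invFun j := ⟨_, (h j).2.1⟩
  left_inv j := Fin.ext (h j).2.2.1
  right_inv j := Fin.ext (h j).2.2.2

theorem factA : Nat.card (fixV rho (ThOut.ev wordA)) = 3 ^ 8 ∧ ThOut.ev wordA ^ 31 = 1 := by
  have hs : ∀ j : Fin 248, sig 31 248 j.val < 248 ∧ sig' 31 248 j.val < 248 ∧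
      sig' 31 248 (sig 31 248 j.val) = j.val ∧ sig 31 248 (sig' 31 248 j.val) = j.val := fun j => by
    have h := sig_ok
    simp only [List.all_eq_true, List.mem_range, Bool.and_eq_true, Nat.blt_eq, Nat.beq_eq] at h
    obtain ⟨⟨⟨⟨⟨⟨⟨a, b⟩, c⟩, d⟩, -⟩, -⟩, -⟩, -⟩ := h j j.isLt
    exact ⟨a, b, c, d⟩
  obtain ⟨A, B, hBA, hgA⟩ := basis_facts goodA_ok packA_ok packAPerm_ok dualA_ok moveA_ok (shift 31 248 hs) fun _ => rfl
  obtain ⟨h1, h2⟩ := card_fixV rho ThOut.rho_injective (d := 8) (shift 31 248 hs) (fun _ => rfl) hBA hgA (by norm_num)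
    (fun c => by omega) (fun j => by omega) (fun j hj => by omega) (fun c => by omega)
  exact ⟨h1, h2.resolve_right (by norm_num)⟩

theorem factB : Nat.card (fixV rho (ThOut.ev wordB)) = 3 ^ 14 ∧ ThOut.ev wordB ^ 19 = 1 := by
  have hs : ∀ j : Fin 248, sig 19 247 j.val < 248 ∧ sig' 19 247 j.val < 248 ∧
      sig' 19 247 (sig 19 247 j.val) = j.val ∧ sig 19 247 (sig' 19 247 j.val) = j.val := fun j => by
    have h := sig_ok
    simp only [List.all_eq_true, List.mem_range, Bool.and_eq_true, Nat.blt_eq, Nat.beq_eq] at h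
    obtain ⟨⟨⟨⟨-, a⟩, b⟩, c⟩, d⟩ := h j j.isLt
    exact ⟨a, b, c, d⟩
  obtain ⟨A, B, hBA, hgA⟩ := basis_facts goodB_ok packB_ok packBPerm_ok dualB_ok moveB_ok (shift 19 247 hs) fun _ => rfl
  obtain ⟨h1, h2⟩ := card_fixV rho ThOut.rho_injective (d := 14) (shift 19 247 hs) (fun _ => rfl) hBA hgA (by norm_num)
    (fun c => by omega) (fun j => by omega) (fun j hj => by omega) (fun c => by omega)
  exact ⟨h1, h2.resolve_right (by norm_num)⟩

theorem factorization_th (hcard : Nat.card Cfsg.Spor.Th = 90745943887872000) {p r : ℕ} (hp : p.Prime)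
    (e : 90745943887872000 = p * r) (hr : ¬ p ∣ r) :
    (Nat.card Cfsg.Spor.Th).factorization p = 1 := by
  rw [hcard, e, Nat.factorization_mul hp.ne_zero (fun h => hr (by rw [h]; exact dvd_zero p)),
    Finsupp.add_apply, hp.factorization_self, Nat.factorization_eq_zero_of_not_dvd hr]

/-- Elements of orders thirty-one and nineteen never commute. -/
theorem not_commute (hcard : Nat.card Cfsg.Spor.Th = 90745943887872000) {x y : Cfsg.Spor.Th}
    (hx : orderOf x = 31) (hy : orderOf y = 19) : ¬ Commute x y := by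
  intro hxy
  haveI : Fact (Nat.Prime 31) := ⟨by norm_num⟩
  haveI : Fact (Nat.Prime 19) := ⟨by norm_num⟩
  obtain ⟨cA, pA⟩ := factA
  obtain ⟨cB, pB⟩ := factB
  have hne : ∀ {a : Cfsg.Spor.Th} {d : ℕ}, Nat.card (fixV rho a) = 3 ^ d → d < 248 → a ≠ 1 := by
    intro a d h hd e
    rw [e, fixV_one] at h
    have := Nat.pow_right_injective (by norm_num : 2 ≤ 3) h
    omega
  have hfA : Nat.card (fixV rho x) = 3 ^ 8 := by
    rw [card_fixV_eq rho (by norm_num) (factorization_th hcard (r := 2927288512512000) (by norm_num) (by norm_num) (by norm_num))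
      (orderOf_eq_prime pA (hne cA (by norm_num))) hx, cA]
  have hfB : Nat.card (fixV rho y) = 3 ^ 14 := by
    rw [card_fixV_eq rho (by norm_num) (factorization_th hcard (r := 4776102309888000) (by norm_num) (by norm_num) (by norm_num))
      (orderOf_eq_prime pB (hne cB (by norm_num))) hy, cB]
  obtain ⟨j, hj, hmod⟩ := fixV_modEq rho hx hxy hfA
  rw [hfB] at hmod
  revert hmod
  interval_cases j <;> decide

end CfsgLib.ThType.Endgame
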