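import Cfsg.Agent.Lib.ExtraNine.Apply
import Cfsg.Agent.Lib.Cores.Basic

/-!
# The frame of the extraspecial subgroup from the hypotheses on the centraliser
-/

set_option autoImplicit false

namespace CfsgLib.ThType.Endgame

open Subgroup Cfsg CfsgLib.ExtraNine CfsgLib.LargeExtra

variable {G : Type*} [Group G] [Finite G]

/-- The coordinates on the extraspecial subgroup and the quotient acting on them. -/
theorem exists_frame {z : G} (hz : orderOf z = 2) (Q : Subgroup (centralizer ({z} : Set G))) [Q.Normal]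
    (hQ : IsExtraspecial 2 Q) (hcard : Nat.card Q = 2 ^ 9)
    (hCQ : centralizer (Q : Set (centralizer ({z} : Set G))) ≤ Q)
    {A : Type*} [Group A] (e : (centralizer ({z} : Set G)) ⧸ Q ≃* A) :
    ∃ (V : Type) (_ : AddCommGroup V) (N : Nine G V),
      N.z = z ∧ Nat.card V = 256 ∧ Nonempty (A ≃* ↥N.ρ.range) := by
  obtain ⟨-, F⟩ := fData_of_self hz Q hQ hCQ
  obtain ⟨V, _, _, N, hNz, hNQ, hV⟩ := exists_nine F (by
    rw [card_map_of_injective (centralizer ({z} : Set G)).subtype_injective, hcard]; norm_num)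
  subst hNz
  have hker : N.ρ.ker = Q := by
    ext g
    rw [MonoidHom.mem_ker, N.ρ_eq_one_iff, hNQ]
    exact Subgroup.mem_map_iff_mem (centralizer ({N.z} : Set G)).subtype_injective
  exact ⟨V, inferInstance, N, rfl, by rw [Nat.card_eq_fintype_card, hV],
    ⟨e.symm.trans ((QuotientGroup.quotientMulEquivOfEq hker.symm).trans
      (QuotientGroup.quotientKerEquivRange N.ρ))⟩⟩

/-- In a simple group the centraliser does not cover modulo the odd core. -/
theorem not_split [IsSimpleGroup G] {z : G} (hz : orderOf z = 2) (Q : Subgroup (centralizer ({z} : Set G)))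
    (hcard : Nat.card Q = 2 ^ 9) : centralizer ({z} : Set G) ⊔ Cfsg.oddCore G ≠ ⊤ := by
  have hdvd : 2 ^ 9 ∣ Nat.card G :=
    hcard ▸ (Subgroup.card_subgroup_dvd_card Q).trans (Subgroup.card_subgroup_dvd_card _)
  have hO : Cfsg.oddCore G = ⊥ := by
    refine (inferInstance : (Cfsg.oddCore G).Normal).eq_bot_or_eq_top.resolve_right fun h => ?_
    have hodd := (CfsgLib.Cores.odd_card_oddCore : Odd (Nat.card ↥(Cfsg.oddCore G)))
    rw [h, Subgroup.card_top, ← Nat.not_even_iff_odd, even_iff_two_dvd] at hodd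
    exact hodd ((dvd_pow_self 2 (by norm_num)).trans hdvd)
  rw [hO, sup_bot_eq]
  intro h
  have hzc : z ∈ center G := mem_center_iff.2 fun g =>
    mem_centralizer_singleton_iff.1 (h ▸ mem_top g : g ∈ centralizer ({z} : Set G))
  have htop : center G = ⊤ := (inferInstance : (center G).Normal).eq_bot_or_eq_top.resolve_left fun hb => by
    rw [hb, mem_bot] at hzc
    rw [hzc, orderOf_one] at hz
    norm_num at hz
  have hcomm : ∀ a b : G, a * b = b * a := fun a b => mem_center_iff.1 (htop ▸ mem_top b : b ∈ center G) a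
  have htopz : zpowers z = ⊤ := by
    have hn : (zpowers z).Normal := ⟨fun n hn g => by rwa [hcomm g n, mul_inv_cancel_right]⟩
    refine hn.eq_bot_or_eq_top.resolve_left fun hb => ?_
    rw [zpowers_eq_bot] at hb
    rw [hb, orderOf_one] at hz
    norm_num at hz
  have h2 : Nat.card G = 2 := by rw [← Subgroup.card_top (G := G), ← htopz, Nat.card_zpowers, hz]
  rw [h2] at hdvd
  norm_num at hdvd

end CfsgLib.ThType.Endgame
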