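import Cfsg.Agent.Lib.ThType.Endgame.Classes
import Cfsg.Agent.Lib.ThType.Endgame.Fixed
import Cfsg.Agent.Lib.ThInvol.Class
import Cfsg.Agent.Lib.ThOut.Shape
import Cfsg.Agent.Lib.ThIndex.Simple
import Cfsg.Agent.Lib.Invol.Embedded
import Cfsg.Agent.Lib.Solvable.Hall
import Cfsg.Agent.S0205
import Cfsg.Prelude.Def_Spor_Th

/-!
# A copy of the Thompson group containing the centraliser of one of its involutions is everything

All involutions of the presented group are conjugate, so a proper copy would be strongly embedded. The odd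
subgroup fixing a second coset would be transitive on the involutions and hence have an element of order 589.
-/

set_option autoImplicit false
set_option maxRecDepth 100000

namespace CfsgLib.ThType.Endgame

open CfsgLib.ThOut Subgroup

/-- All involutions of the presented group are conjugate to a. -/
theorem isConj_a {i : Cfsg.Spor.Th} (hi : orderOf i = 2) : IsConj (el 0) i := by
  haveI := CfsgLib.ThIndex.th_simple
  haveI := CfsgLib.ThIndex.th_finite
  haveI : Fact (Nat.Prime 2) := ⟨Nat.prime_two⟩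
  have hC := CfsgLib.ThInvol.card_cent_le CfsgLib.ThIndex.th_card
  obtain ⟨P, hP⟩ := Sylow.exists_subgroup_card_pow_prime (G := Hs) 2 (n := 15) (by rw [card_hs hC]; norm_num)
  have hP' : Nat.card (P.map Hs.subtype) = 2 ^ (Nat.card Cfsg.Spor.Th).factorization 2 := by
    rw [card_map_of_injective (subtype_injective _), hP, CfsgLib.ThIndex.th_card,
      show (90745943887872000 : ℕ) = 2 ^ 15 * 2769346432125 by norm_num,
      Nat.factorization_mul (by norm_num) (by norm_num), Finsupp.add_apply, Nat.prime_two.factorization_pow,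
      Finsupp.single_eq_same, Nat.factorization_eq_zero_of_not_dvd (by norm_num), Nat.add_zero]
  obtain ⟨Q, hQ⟩ := (IsPGroup.of_card (p := 2) (n := 1) (by rw [Nat.card_zpowers, hi, pow_one]) :
    IsPGroup 2 (zpowers i)).exists_le_sylow
  obtain ⟨g, hg⟩ := MulAction.exists_smul_eq Cfsg.Spor.Th (Sylow.ofCard _ hP') Q
  have h1 : i ∈ (g • Sylow.ofCard _ hP' : Sylow 2 Cfsg.Spor.Th).toSubgroup := hg ▸ hQ (mem_zpowers i)
  rw [Sylow.coe_subgroup_smul, Subgroup.pointwise_smul_def, Sylow.coe_ofCard] at h1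
  obtain ⟨j, hj, hji⟩ := h1
  obtain ⟨x, -, rfl⟩ := hj
  have hji' : g * (x : Cfsg.Spor.Th) * g⁻¹ = i := hji
  have hx : orderOf (x : Cfsg.Spor.Th) = 2 := by rw [← hi, ← hji', ← MulAut.conj_apply, MulEquiv.orderOf_eq]
  have hx2 : x * x = 1 := Subtype.ext (by
    rw [coe_mul, coe_one, ← pow_two, ← hx, pow_orderOf_eq_one])
  have hx1 : x ≠ 1 := fun h => by rw [h, coe_one, orderOf_one] at hx; omega
  exact (isA_of_invol hC hx2 hx1).trans (isConj_iff.2 ⟨g, hji'⟩)

theorem pow_nineteen : ∀ a : ZMod 31, 1 = a ^ 19 → 1 = a := by decide +kernel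

/-- In a group of order `589` two elements of orders thirty-one and nineteen commute. -/
theorem exists_commute_of_card {H : Type*} [Group H] [Finite H] (hH : Nat.card H = 589) :
    ∃ x y : H, orderOf x = 31 ∧ orderOf y = 19 ∧ Commute x y := by
  haveI : Fact (Nat.Prime 31) := ⟨by norm_num⟩
  haveI : Fact (Nat.Prime 19) := ⟨by norm_num⟩
  obtain ⟨x, hx⟩ := exists_prime_orderOf_dvd_card' (G := H) 31 (by rw [hH]; norm_num)
  obtain ⟨y, hy⟩ := exists_prime_orderOf_dvd_card' (G := H) 19 (by rw [hH]; norm_num)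
  have hidx : (zpowers x).index = (Nat.card H).minFac := by
    have h := (zpowers x).card_mul_index
    rw [Nat.card_zpowers, hx, hH] at h
    rw [hH, show Nat.minFac 589 = 19 by norm_num]
    omega
  haveI := Subgroup.normal_of_index_eq_minFac_card hidx
  obtain ⟨k, hk⟩ := mem_zpowers_iff.1 ((inferInstance : (zpowers x).Normal).conj_mem x (mem_zpowers x) y)
  have hpow : ∀ n : ℕ, y ^ n * x * (y ^ n)⁻¹ = x ^ (k ^ n) := by
    intro n
    induction n with
    | zero => simp
    | succ n ih =>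
      rw [pow_succ' y, show y * y ^ n * x * (y * y ^ n)⁻¹ = y * (y ^ n * x * (y ^ n)⁻¹) * y⁻¹ by group, ih,
        ← conj_zpow, ← hk, ← zpow_mul, pow_succ']
  have h19 := hpow 19
  rw [← hy, pow_orderOf_eq_one, one_mul, inv_one, mul_one, hy] at h19
  have hmod : (1 : ℤ) ≡ k ^ 19 [ZMOD 31] := by
    rw [← show ((orderOf x : ℕ) : ℤ) = 31 by rw [hx]; rfl, ← zpow_eq_zpow_iff_modEq, zpow_one]
    exact h19
  have hk1 : (1 : ℤ) ≡ k [ZMOD 31] := by
    have h := (ZMod.intCast_eq_intCast_iff _ _ 31).2 hmod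
    push_cast at h
    refine (ZMod.intCast_eq_intCast_iff _ _ 31).1 ?_
    push_cast
    exact pow_nineteen _ h
  refine ⟨x, y, hx, hy, ?_⟩
  have : y * x * y⁻¹ = x := by
    rw [← hk]
    conv_rhs => rw [← zpow_one x]
    rw [zpow_eq_zpow_iff_modEq, hx]
    exact hk1.symm
  exact (mul_inv_eq_iff_eq_mul.1 this).symm

variable {G : Type*} [Group G] [Finite G]

/-- The copy is everything. -/
theorem range_eq_top (φ : Cfsg.Spor.Th →* G) (hφ : Function.Injective φ)
    (hle : centralizer ({φ (el 0)} : Set G) ≤ φ.range) : φ.range = ⊤ := by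
  classical
  haveI := CfsgLib.ThIndex.th_simple
  haveI := CfsgLib.ThIndex.th_finite
  have hC := CfsgLib.ThInvol.card_cent_le CfsgLib.ThIndex.th_card
  obtain ⟨t, ht⟩ : ∃ t, t = φ (el 0) := ⟨_, rfl⟩
  rw [← ht] at hle
  obtain ⟨M, hM⟩ : ∃ M, M = φ.range := ⟨_, rfl⟩
  rw [← hM] at hle ⊢
  have hcard : Nat.card M = 90745943887872000 := by
    rw [hM, ← Nat.card_congr (MonoidHom.ofInjective hφ).toEquiv, CfsgLib.ThIndex.th_card]
  obtain ⟨C, hCd⟩ : ∃ C, C = centralizer ({t} : Set G) := ⟨_, rfl⟩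
  rw [← hCd] at hle
  have hCcard : Nat.card C = 92897280 := by
    rw [show C = (centralizer ({el 0} : Set Cfsg.Spor.Th)).map φ from ?_, card_map_of_injective hφ, cent_eq hC,
      card_hs hC]
    refine le_antisymm (fun c hc => ?_) ?_
    · obtain ⟨c', rfl⟩ := hM ▸ hle hc
      refine ⟨c', mem_centralizer_singleton_iff.2 (hφ ?_), rfl⟩
      rw [map_mul, map_mul, ← ht]
      exact mem_centralizer_singleton_iff.1 (hCd ▸ hc)
    · rintro _ ⟨c', hc', rfl⟩
      rw [hCd, mem_centralizer_singleton_iff, ht, ← map_mul, ← map_mul, mem_centralizer_singleton_iff.1 hc']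
  have ht2 : orderOf t = 2 := by rw [ht, orderOf_injective φ hφ, ThOut.orderOf_a]
  have htC : t ∈ C := hCd ▸ mem_centralizer_singleton_iff.2 rfl
  have hconj : ∀ s ∈ M, orderOf s = 2 → ∃ m ∈ M, m * t * m⁻¹ = s := by
    intro s hs hs2
    obtain ⟨s', rfl⟩ := hM ▸ hs
    obtain ⟨k, hk⟩ := isConj_iff.1 (isConj_a (i := s') (by rw [← orderOf_injective φ hφ, hs2]))
    exact ⟨φ k, hM ▸ ⟨k, rfl⟩, by rw [ht, ← map_inv, ← map_mul, ← map_mul, hk]⟩
  by_contra htop
  have hSE : Cfsg.IsStronglyEmbedded M := by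
    refine ⟨htop, by rw [hcard]; decide, fun g hg => ?_⟩
    rw [← Nat.not_even_iff_odd, even_iff_two_dvd]
    intro h2
    have := Fact.mk Nat.prime_two
    obtain ⟨i, hi⟩ := exists_prime_orderOf_dvd_card' 2 h2
    obtain ⟨hiM, j, hjM, hji⟩ : (i : G) ∈ M ∧ ∃ j ∈ M, g * j * g⁻¹ = (i : G) := ⟨i.2.1, i.2.2⟩
    have hi2 : orderOf (i : G) = 2 := (orderOf_coe i).trans hi
    have hj2 : orderOf j = 2 := by
      rw [← hi2, ← hji, ← MulAut.conj_apply, MulEquiv.orderOf_eq]
    obtain ⟨a, ha, hai⟩ := hconj _ hiM hi2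
    obtain ⟨b, hb, hbj⟩ := hconj _ hjM hj2
    apply hg
    have hmem : a⁻¹ * g * b ∈ C := by
      rw [hCd, mem_centralizer_singleton_iff]
      calc a⁻¹ * g * b * t = a⁻¹ * (g * (b * t * b⁻¹) * g⁻¹) * g * b := by group
        _ = a⁻¹ * (a * t * a⁻¹) * g * b := by rw [hbj, hji, hai]
        _ = t * (a⁻¹ * g * b) := by group
    have h3 := mul_mem (mul_mem ha (hle hmem)) (inv_mem hb)
    rwa [show a * (a⁻¹ * g * b) * b⁻¹ = g by group] at h3
  obtain ⟨g, hg⟩ : ∃ g, g ∉ M := by
    by_contra h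
    simp only [not_exists, not_not] at h
    exact htop (eq_top_iff.2 fun x _ => h x)
  set u := g * t * g⁻¹ with hu
  have hu2 : orderOf u = 2 := by rw [hu, ← MulAut.conj_apply, MulEquiv.orderOf_eq, ht2]
  have huM : u ∉ M := by
    intro h
    obtain ⟨m, hm, hmu⟩ := hconj u h hu2
    apply hg
    have hmem : m⁻¹ * g ∈ C := by
      rw [hCd, mem_centralizer_singleton_iff]
      calc m⁻¹ * g * t = m⁻¹ * (g * t * g⁻¹) * g := by group
        _ = m⁻¹ * (m * t * m⁻¹) * g := by rw [hmu, hu]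
        _ = t * (m⁻¹ * g) := by group
    have h3 := mul_mem hm (hle hmem)
    rwa [mul_inv_cancel_left] at h3
  set D := M ⊓ M.map (MulAut.conj u).toMonoidHom with hD
  have hDodd : Odd (Nat.card D) := hSE.2.2 u huM
  have hDM : D ≤ M := inf_le_left
  have htM : t ∈ M := hle htC
  have hidx : 976841775 ∣ Nat.card D := by
    have h1 : C.relIndex M = 976841775 := by
      have h2 := (C.subgroupOf M).index_mul_card
      rw [Nat.card_congr (subgroupOfEquivOfLe hle).toEquiv, hCcard, hcard] at h2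
      show (C.subgroupOf M).index = 976841775
      omega
    have hrel : C.relIndex M = C.relIndex D := by
      refine (Nat.card_congr (Equiv.ofBijective
        (fun q : D ⧸ C.subgroupOf D => Quotient.liftOn' q
          (fun d => ((⟨d, hDM d.2⟩ : M) : M ⧸ C.subgroupOf M)) ?_) ⟨?_, ?_⟩)).symm
      · intro a b hab
        rw [QuotientGroup.leftRel_apply, mem_subgroupOf] at hab
        exact QuotientGroup.eq.2 (mem_subgroupOf.2 hab)
      · rintro ⟨a⟩ ⟨b⟩ hab
        change ((⟨a, hDM a.2⟩ : M) : M ⧸ C.subgroupOf M) = ((⟨b, hDM b.2⟩ : M) : M ⧸ C.subgroupOf M) at hab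
        refine Quotient.sound' ?_
        rw [QuotientGroup.leftRel_apply, mem_subgroupOf]
        have h1 := QuotientGroup.eq.1 hab
        exact mem_subgroupOf.1 h1
      · rintro ⟨m⟩
        have hm2 : orderOf ((m : G) * t * (m : G)⁻¹) = 2 := by
          rw [← MulAut.conj_apply, MulEquiv.orderOf_eq, ht2]
        obtain ⟨d, hd, hdt⟩ := CfsgLib.Invol.stronglyEmbedded_transitive hSE hu2 huM ht2 htM hm2
          (mul_mem (mul_mem m.2 htM) (inv_mem m.2))
        refine ⟨((⟨d, hd⟩ : D) : D ⧸ C.subgroupOf D), QuotientGroup.eq.2 (mem_subgroupOf.2 ?_)⟩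
        show d⁻¹ * (m : G) ∈ C
        rw [hCd, mem_centralizer_singleton_iff]
        calc d⁻¹ * (m : G) * t = d⁻¹ * ((m : G) * t * (m : G)⁻¹) * m := by group
          _ = d⁻¹ * (d * t * d⁻¹) * m := by rw [hdt]
          _ = t * (d⁻¹ * (m : G)) := by group
    rw [← h1, hrel]
    exact index_dvd_card _
  haveI : Group.IsSolvable ↥D := Cfsg.Agent.S0205.result hDodd
  obtain ⟨n, hn⟩ : 589 ∣ Nat.card D := Nat.dvd_trans (by norm_num) hidx
  have hcop : Nat.Coprime 589 n := by
    have hd : 589 * n ∣ 90745943887872000 := hn ▸ hcard ▸ card_dvd_of_le hDM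
    have hn' : n ∣ 90745943887872000 / 589 := by
      have : (90745943887872000 : ℕ) = 589 * (90745943887872000 / 589) := by norm_num
      rw [this] at hd
      exact Nat.dvd_of_mul_dvd_mul_left (by norm_num) hd
    exact Nat.Coprime.coprime_dvd_right hn' (by norm_num)
  obtain ⟨H, hH⟩ := CfsgLib.Solvable.exists_hall (G := ↥D) hn hcop
  obtain ⟨x, y, hx, hy, hxy⟩ := exists_commute_of_card hH
  let f : ↥H →* G := D.subtype.comp H.subtype
  have hfinj : Function.Injective f := (subtype_injective D).comp (subtype_injective H)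
  have hr : ∀ z : ↥H, ∃ z' : Cfsg.Spor.Th, φ z' = f z := fun z => by
    have h1 := hDM (z : ↥D).2
    rw [hM] at h1
    exact h1
  obtain ⟨x', hx'⟩ := hr x
  obtain ⟨y', hy'⟩ := hr y
  refine not_commute CfsgLib.ThIndex.th_card (x := x') (y := y') ?_ ?_ (hφ ?_)
  · rw [← orderOf_injective φ hφ, hx', orderOf_injective f hfinj, hx]
  · rw [← orderOf_injective φ hφ, hy', orderOf_injective f hfinj, hy]
  · rw [map_mul, map_mul, hx', hy', ← map_mul, ← map_mul, hxy.eq]

/-- The isomorphism type, the order, simplicity and the single class of involutions. -/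
theorem facts (φ : Cfsg.Spor.Th →* G) (hφ : Function.Injective φ)
    (hle : centralizer ({φ (el 0)} : Set G) ≤ φ.range) :
    Cfsg.Spor.IsoTh G ∧ Cfsg.IsTh G ∧ Nat.card G = 90745943887872000 ∧ IsSimpleGroup G ∧
      ∀ x y : G, orderOf x = 2 → orderOf y = 2 → IsConj x y := by
  haveI := CfsgLib.ThIndex.th_simple
  have hsurj : Function.Surjective φ := MonoidHom.range_eq_top.1 (range_eq_top φ hφ hle)
  let e : Cfsg.Spor.Th ≃* G := MulEquiv.ofBijective φ ⟨hφ, hsurj⟩
  haveI : Nontrivial G := e.injective.nontrivial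
  have hs : IsSimpleGroup G := IsSimpleGroup.isSimpleGroup_of_surjective e.toMonoidHom e.surjective
  have hc : Nat.card G = 90745943887872000 := by rw [← Nat.card_congr e.toEquiv, CfsgLib.ThIndex.th_card]
  refine ⟨⟨e.symm⟩, ⟨hs, hc⟩, hc, hs, fun x y hx hy => ?_⟩
  have key : ∀ z : G, orderOf z = 2 → IsConj (φ (el 0)) z := by
    intro z hz
    obtain ⟨z', rfl⟩ := hsurj z
    exact φ.map_isConj (isConj_a (by rw [← orderOf_injective φ hφ, hz]))
  exact (key x hx).symm.trans (key y hy)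

end CfsgLib.ThType.Endgame
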